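import Groth.Agent.H26.CILoc
import Groth.Agent.H20.CMDim
import Groth.Agent.Lib.EGA75.CM
import Groth.Agent.Lib.EGA75.Sn
import Groth.Agent.Lib.EGA75.SnTensor
import Groth.Agent.Lib.EGA75.Loci
import Groth.Agent.Lib.Henselian.NoetherianCriterion
import Mathlib.RingTheory.Spectrum.Prime.Chevalley

/-!
# Cohen–Macaulay fibres of syntomic algebras
-/

set_option autoImplicit false
set_option linter.style.haveILetI false

universe u

open IsLocalRing LocCoh
open Groth.Agent.Lib.Depth
open scoped TensorProduct

namespace Groth.Agent.Lib.SyntLocal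

/-- A complete intersection local ring over a field is Cohen-Macaulay. -/
theorem isCohenMacaulayLocalRing_of_isCIOver (k : Type u) [Field k] (S : Type u) [CommRing S]
    [IsLocalRing S] [Algebra k S] (h : Synt.IsCIOver k S) : IsCohenMacaulayLocalRing S := by
  obtain ⟨R, _, _, _, -, rs, hmem, hreg, ⟨e⟩⟩ := h
  haveI := JacCrit.FlatRegular.isCohenMacaulayLocalRing R
  haveI : IsLocalRing (R ⧸ Ideal.ofList rs) := e.toRingEquiv.isLocalRing
  refine EGA75.CM.isoInvariant (R ⧸ Ideal.ofList rs) S e.symm.toRingEquiv ?_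
  change IsCohenMacaulayLocalRing (R ⧸ Ideal.ofList rs)
  rw [CM.isCohenMacaulayLocalRing_quotient_iff_module]
  exact (CM.isCohenMacaulayModule_congr (Submodule.quotEquivOfEq _ (Ideal.ofList rs) (Ideal.mul_top _))).mp
    (H20.CMDim.isCohenMacaulayModule_quotient_ofList CM.isCohenMacaulayModule_self rs hmem
      hreg.toIsWeaklyRegular)

/-- A local complete intersection over a field is Cohen-Macaulay. -/
theorem isCohenMacaulayRing_of_isLCIOver (k : Type u) [Field k] (S : Type u) [CommRing S]
    [Algebra k S] (h : Synt.IsLCIOver k S) : IsCohenMacaulayRing S := by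
  haveI := h.1
  haveI : IsNoetherianRing S := Algebra.FiniteType.isNoetherianRing k S
  refine EGA75.CM.of_forall S fun p _ => ?_
  exact isCohenMacaulayLocalRing_of_isCIOver k _
    ((Groth.Agent.H26.CILoc.isLCIOver_iff k).1 h ⟨p, inferInstance⟩)

/-- A property lifting from base and closed fibre ascends along a syntomic algebra. -/
theorem ascend {P : ∀ (S : Type u) [CommRing S], Prop} (hP : EGA75.Comp.CompProp P)
    (hCM : ∀ (L : Type u) [CommRing L] [IsLocalRing L], IsCohenMacaulayLocalRing L → P L)
    (A B : Type u) [CommRing A] [CommRing B] [Algebra A B] [IsNoetherianRing A]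
    (h : Synt.IsSyntomic A B) (hA : ∀ (p : Ideal A) [p.IsPrime], P (Localization.AtPrime p))
    (q : Ideal B) [q.IsPrime] : P (Localization.AtPrime q) := by
  haveI := h.1
  haveI := h.2.1
  haveI : IsNoetherianRing B := Algebra.FiniteType.isNoetherianRing A B
  refine EGA75.Loci.atPrime_of_fibre hP A B q _ rfl (hA _) fun Q' _ => hCM _ ?_
  haveI := isCohenMacaulayRing_of_isLCIOver _ _ (h.2.2 ⟨q.comap (algebraMap A B), inferInstance⟩)
  exact LocCoh.IsCohenMacaulayRing.isCohenMacaulayLocalRing_localization Q'

/-- Noetherianity descends to a basic open of the image of a flat algebra of finite presentation. -/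
theorem exists_isNoetherianRing_away (A B : Type u) [CommRing A] [CommRing B] [Algebra A B]
    [Module.Flat A B] [Algebra.FinitePresentation A B] [IsNoetherianRing B] (q : PrimeSpectrum B) :
    ∃ a : A, a ∉ q.asIdeal.comap (algebraMap A B) ∧ IsNoetherianRing (Localization.Away a) := by
  have hop := PrimeSpectrum.isOpenMap_comap_of_hasGoingDown_of_finitePresentation (R := A) (S := B)
  obtain ⟨_, ⟨a, rfl⟩, ha, hsub⟩ := PrimeSpectrum.isTopologicalBasis_basic_opens.exists_subset_of_mem_open
    (Set.mem_range_self q) hop.isOpen_range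
  refine ⟨a, ha, ?_⟩
  let T := Algebra.algebraMapSubmonoid B (Submonoid.powers a)
  let Aa := Localization.Away a
  let Ba := Localization T
  let φ : Aa →+* Ba := IsLocalization.map Ba (algebraMap A B)
    (show Submonoid.powers a ≤ T.comap (algebraMap A B) from fun x hx => ⟨x, hx, rfl⟩)
  letI : Algebra Aa Ba := φ.toAlgebra
  haveI : IsScalarTower A Aa Ba := IsScalarTower.of_algebraMap_eq fun z => by
    rw [RingHom.algebraMap_toAlgebra]
    exact ((IsLocalization.map_eq _ z).trans (IsScalarTower.algebraMap_apply A B Ba z).symm).symm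
  haveI : IsNoetherianRing Ba := IsLocalization.isNoetherianRing T Ba inferInstance
  haveI : Module.Flat B Ba := IsLocalization.flat Ba T
  haveI : Module.Flat A Ba := Module.Flat.trans A B Ba
  haveI : Module.Flat Aa Ba := (Module.flat_iff_of_isLocalization Aa (Submonoid.powers a) Ba).2 inferInstance
  haveI : Module.FaithfullyFlat Aa Ba := by
    refine Module.FaithfullyFlat.of_comap_surjective fun P => ?_
    have hP : a ∉ P.asIdeal.comap (algebraMap A Aa) := fun hmem =>
      P.isPrime.ne_top (P.asIdeal.eq_top_of_isUnit_mem hmem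
        (IsLocalization.map_units Aa (⟨a, Submonoid.mem_powers a⟩ : Submonoid.powers a)))
    obtain ⟨q', hq'⟩ := hsub (show PrimeSpectrum.comap (algebraMap A Aa) P ∈ PrimeSpectrum.basicOpen a from hP)
    obtain ⟨q', hq'p⟩ := q'
    have hq'c : q'.comap (algebraMap A B) = P.asIdeal.comap (algebraMap A Aa) := congrArg PrimeSpectrum.asIdeal hq'
    have hd : Disjoint (T : Set B) q' := Set.disjoint_left.2 fun b ⟨z, hz, hzb⟩ hb => by
      obtain ⟨m, rfl⟩ := hz
      have : a ^ m ∈ P.asIdeal.comap (algebraMap A Aa) := hq'c ▸ Ideal.mem_comap.2 (hzb.symm ▸ hb)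
      exact hP ((inferInstance : (P.asIdeal.comap (algebraMap A Aa)).IsPrime).mem_of_pow_mem m this)
    refine ⟨⟨q'.map (algebraMap B Ba), IsLocalization.isPrime_of_isPrime_disjoint T Ba q' hq'p hd⟩, ?_⟩
    refine PrimeSpectrum.ext ?_
    change (q'.map (algebraMap B Ba)).comap (algebraMap Aa Ba) = P.asIdeal
    rw [← IsLocalization.map_under (Submonoid.powers a) Aa ((q'.map (algebraMap B Ba)).comap (algebraMap Aa Ba)),
      ← IsLocalization.map_under (Submonoid.powers a) Aa P.asIdeal, Ideal.under_def, Ideal.under_def,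
      Ideal.comap_comap, ← IsScalarTower.algebraMap_eq, IsScalarTower.algebraMap_eq A B Ba, ← Ideal.comap_comap,
      ← hq'c]
    congr 1
    exact congrArg (Ideal.comap (algebraMap A B)) (IsLocalization.under_map_of_isPrime_disjoint T Ba hq'p hd)
  exact Henselian.NoetherianCriterion.isNoetherianRing_of_faithfullyFlat (S := Ba) Aa

end Groth.Agent.Lib.SyntLocal
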