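import Groth.Agent.Lib.SyntLocal.Algebra
import Groth.Agent.Lib.Synt92.MorCrit

/-!
# Local properties along jointly surjective syntomic families
-/

set_option autoImplicit false
set_option linter.style.haveILetI false

universe u

open CategoryTheory AlgebraicGeometry

namespace Groth.Agent.Lib.SyntLocal

/-- The stalk at a point of an affine chart. -/
theorem nonempty_stalkEquiv {T : Scheme.{u}} {R : CommRingCat.{u}} (j : Spec R ⟶ T) [IsOpenImmersion j]
    (p : Spec R) [p.asIdeal.IsPrime] :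
    Nonempty (T.presheaf.stalk (j p) ≃+* Localization.AtPrime p.asIdeal) :=
  ⟨((asIso (j.stalkMap p)) ≪≫ Spec.stalkIso R p).commRingCatIsoToRingEquiv⟩

/-- A property of local rings at all points, read on an affine chart. -/
theorem atPrime_of_stalk {P : ∀ (S : Type u) [CommRing S], Prop}
    (hP : Excellent.FormalFibre.IsoInvariant.{u} P) {T : Scheme.{u}} {U : T.Opens} (hU : IsAffineOpen U)
    (h : ∀ t : T, P (T.presheaf.stalk t)) (p : Ideal Γ(T, U)) [p.IsPrime] : P (Localization.AtPrime p) := by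
  obtain ⟨e⟩ := nonempty_stalkEquiv hU.fromSpec ⟨p, inferInstance⟩
  exact hP _ _ e (h _)

variable {X S : Scheme.{u}} (f : X ⟶ S)

/-- A property lifting from base and closed fibre ascends along a syntomic morphism. -/
theorem stalk_ascend {P : ∀ (S : Type u) [CommRing S], Prop} (hP : EGA75.Comp.CompProp P)
    (hCM : ∀ (L : Type u) [CommRing L] [IsLocalRing L], LocCoh.IsCohenMacaulayLocalRing L → P L)
    [IsLocallyNoetherian S] (hf : Synt.IsSyntomicMor f) (h : ∀ s : S, P (S.presheaf.stalk s)) (x : X) :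
    P (X.presheaf.stalk x) := by
  obtain ⟨U, V, e, hx, hs⟩ := hf x
  have hU : IsAffineOpen U.1 := U.2
  have hx' : x ∈ Set.range hU.fromSpec := by rw [IsAffineOpen.range_fromSpec]; exact hx
  obtain ⟨q, rfl⟩ := hx'
  letI := (f.appLE V.1 U.1 e).hom.toAlgebra
  haveI := IsLocallyNoetherian.component_noetherian (X := S) V
  haveI : q.asIdeal.IsPrime := PrimeSpectrum.isPrime q
  obtain ⟨g⟩ := nonempty_stalkEquiv hU.fromSpec q
  refine hP.iso _ _ g.symm ?_
  exact ascend hP hCM Γ(S, V.1) Γ(X, U.1) hs (fun p _ => atPrime_of_stalk hP.iso V.2 h p) q.asIdeal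

/-- A property descending from generizations descends along a syntomic morphism. -/
theorem stalk_descend {P : ∀ (S : Type u) [CommRing S], Prop} (hP : Excellent.FormalFibre.IsoInvariant.{u} P)
    (hdesc : ∀ (A B : Type u) [CommRing A] [CommRing B] [IsNoetherianRing A] [IsNoetherianRing B] [Algebra A B]
      [Module.Flat A B] (Q0 : Ideal B) [Q0.IsPrime] (p : Ideal A) [p.IsPrime],
      Q0.comap (algebraMap A B) = p → (∀ (q : Ideal B) [q.IsPrime], P (Localization.AtPrime q)) →
        P (Localization.AtPrime p))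
    [IsLocallyNoetherian X] [IsLocallyNoetherian S] (hf : Synt.IsSyntomicMor f)
    (h : ∀ x : X, P (X.presheaf.stalk x)) (x : X) : P (S.presheaf.stalk (f x)) := by
  obtain ⟨U, V, e, hx, hs⟩ := hf x
  have hU : IsAffineOpen U.1 := U.2
  have hV : IsAffineOpen V.1 := V.2
  have hx' : x ∈ Set.range hU.fromSpec := by rw [IsAffineOpen.range_fromSpec]; exact hx
  obtain ⟨q, rfl⟩ := hx'
  letI := (f.appLE V.1 U.1 e).hom.toAlgebra
  haveI := IsLocallyNoetherian.component_noetherian (X := S) V
  haveI := IsLocallyNoetherian.component_noetherian (X := X) U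
  haveI : Module.Flat Γ(S, V.1) Γ(X, U.1) := hs.1
  haveI : q.asIdeal.IsPrime := PrimeSpectrum.isPrime q
  let p : PrimeSpectrum Γ(S, V.1) := PrimeSpectrum.comap (f.appLE V.1 U.1 e).hom q
  have hfx : f (hU.fromSpec q) = hV.fromSpec p := by
    rw [← Scheme.Hom.comp_apply, ← IsAffineOpen.SpecMap_appLE_fromSpec f hV hU e, Scheme.Hom.comp_apply]
    rfl
  rw [hfx]
  obtain ⟨g⟩ := nonempty_stalkEquiv hV.fromSpec p
  refine hP _ _ g.symm ?_
  exact hdesc Γ(S, V.1) Γ(X, U.1) q.asIdeal p.asIdeal rfl fun q' _ => atPrime_of_stalk hP hU h q'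

/-- Local Noetherianity descends along a jointly surjective syntomic family. -/
theorem isLocallyNoetherian_descend {ι : Type u} {S : Scheme.{u}} {X : ι → Scheme.{u}} (f : ∀ i, X i ⟶ S)
    (hsurj : ∀ s : S, ∃ i, s ∈ Set.range (f i).base) (hsyn : ∀ i, Synt.IsSyntomicMor (f i))
    (h : ∀ i, IsLocallyNoetherian (X i)) : IsLocallyNoetherian S := by
  have key : ∀ s : S, ∃ W : S.affineOpens, s ∈ W.1 ∧ IsNoetherianRing Γ(S, W.1) := by
    intro s
    obtain ⟨i, x, rfl⟩ := hsurj s
    haveI := h i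
    obtain ⟨U, V, e, hx, hs⟩ := hsyn i x
    have hU : IsAffineOpen U.1 := U.2
    have hV : IsAffineOpen V.1 := V.2
    have hx' : x ∈ Set.range hU.fromSpec := by rw [IsAffineOpen.range_fromSpec]; exact hx
    obtain ⟨q, rfl⟩ := hx'
    letI := ((f i).appLE V.1 U.1 e).hom.toAlgebra
    haveI := IsLocallyNoetherian.component_noetherian (X := X i) U
    haveI : Module.Flat Γ(S, V.1) Γ(X i, U.1) := hs.1
    haveI : Algebra.FinitePresentation Γ(S, V.1) Γ(X i, U.1) := hs.2.1
    obtain ⟨a, ha, hN⟩ := exists_isNoetherianRing_away Γ(S, V.1) Γ(X i, U.1) q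
    refine ⟨⟨S.basicOpen a, hV.basicOpen a⟩, ?_, ?_⟩
    · have hfx : (f i) (hU.fromSpec q) =
          hV.fromSpec (PrimeSpectrum.comap ((f i).appLE V.1 U.1 e).hom q) := by
        rw [← Scheme.Hom.comp_apply, ← IsAffineOpen.SpecMap_appLE_fromSpec (f i) hV hU e, Scheme.Hom.comp_apply]
        rfl
      change (f i) (hU.fromSpec q) ∈ S.basicOpen a
      rw [hfx]
      have hpre : hV.fromSpec ⁻¹ᵁ S.basicOpen a = PrimeSpectrum.basicOpen a := hV.fromSpec_preimage_basicOpen a
      change PrimeSpectrum.comap ((f i).appLE V.1 U.1 e).hom q ∈ hV.fromSpec ⁻¹ᵁ S.basicOpen a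
      rw [hpre]
      exact ha
    · haveI := hV.isLocalization_basicOpen a
      exact isNoetherianRing_of_ringEquiv _
        (IsLocalization.algEquiv (Submonoid.powers a) (Localization.Away a) Γ(S, S.basicOpen a)).toRingEquiv
  choose W hW hN using key
  refine isLocallyNoetherian_of_affine_cover (S := W) ?_ hN
  exact eq_top_iff.2 fun s _ => TopologicalSpace.Opens.mem_iSup.2 ⟨s, hW s⟩

/-- Locally Noetherian with a given property of all stalks is local in the syntomic topology. -/
theorem iff_family {P : ∀ (S : Type u) [CommRing S], Prop} (hP : EGA75.Comp.CompProp P)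
    (hCM : ∀ (L : Type u) [CommRing L] [IsLocalRing L], LocCoh.IsCohenMacaulayLocalRing L → P L)
    (hdesc : ∀ (A B : Type u) [CommRing A] [CommRing B] [IsNoetherianRing A] [IsNoetherianRing B] [Algebra A B]
      [Module.Flat A B] (Q0 : Ideal B) [Q0.IsPrime] (p : Ideal A) [p.IsPrime],
      Q0.comap (algebraMap A B) = p → (∀ (q : Ideal B) [q.IsPrime], P (Localization.AtPrime q)) →
        P (Localization.AtPrime p))
    {ι : Type u} {S : Scheme.{u}} {X : ι → Scheme.{u}} (f : ∀ i, X i ⟶ S)
    (hsurj : ∀ s : S, ∃ i, s ∈ Set.range (f i).base) (hsyn : ∀ i, Synt.IsSyntomicMor (f i)) :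
    (IsLocallyNoetherian S ∧ ∀ s : S, P (S.presheaf.stalk s)) ↔
      ∀ i, IsLocallyNoetherian (X i) ∧ ∀ x : X i, P ((X i).presheaf.stalk x) := by
  constructor
  · rintro ⟨hS, h⟩ i
    haveI := Synt92.MorCrit.lfp_of_isSyntomicMor (f i) (hsyn i)
    exact ⟨LocallyOfFiniteType.isLocallyNoetherian (f i), stalk_ascend (f i) hP hCM (hsyn i) h⟩
  · intro h
    haveI := isLocallyNoetherian_descend f hsurj hsyn fun i => (h i).1
    refine ⟨inferInstance, fun s => ?_⟩
    obtain ⟨i, x, rfl⟩ := hsurj s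
    haveI := (h i).1
    exact stalk_descend (f i) hP.iso hdesc (hsyn i) (h i).2 x

end Groth.Agent.Lib.SyntLocal

namespace Groth.Agent.Lib.SyntLocal

/-- Serre's condition on all stalks, in terms of the depth condition of the stalks themselves. -/
theorem forall_hasSk_stalk_iff (k : ℕ) (T : Scheme.{u}) :
    (∀ t : T, LocCoh.HasSk k (T.presheaf.stalk t) (T.presheaf.stalk t)) ↔
      ∀ t : T, EGA75.Sn.Local k (T.presheaf.stalk t) := by
  constructor
  · intro h t
    let R := T.presheaf.stalk t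
    exact EGA75.Sn.isoInvariant k (Localization.AtPrime (IsLocalRing.maximalIdeal R)) R
      (IsLocalization.atUnits R (IsLocalRing.maximalIdeal R).primeCompl
        (S := Localization.AtPrime (IsLocalRing.maximalIdeal R)) (fun z hz => by
          by_contra hu
          exact hz hu)).toRingEquiv.symm
      ((EGA75.Sn.hasSk_iff k R).1 (h t) _)
  · intro h t
    obtain ⟨U, hU, hx, -⟩ := exists_isAffineOpen_mem_and_subset (x := t) (U := ⊤) trivial
    have hx' : t ∈ Set.range hU.fromSpec := by rw [IsAffineOpen.range_fromSpec]; exact hx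
    obtain ⟨q, rfl⟩ := hx'
    haveI : q.asIdeal.IsPrime := PrimeSpectrum.isPrime q
    obtain ⟨g⟩ := nonempty_stalkEquiv hU.fromSpec q
    refine EGA75.Sn.isoInvariant_ring k (Localization.AtPrime q.asIdeal) _ g.symm ?_
    change LocCoh.HasSk k _ _
    rw [EGA75.Sn.hasSk_iff]
    exact (Excellent.FormalFibre.forall_localization_iff q.asIdeal.primeCompl (EGA75.Sn.isoInvariant k)).2
      fun p _ _ => atPrime_of_stalk (EGA75.Sn.isoInvariant k) hU h p

end Groth.Agent.Lib.SyntLocal
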